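import Groth.Agent.Lib.Derive.LeftCx
import Groth.Prelude.Def_KFlatSite
import Mathlib.Algebra.Homology.BifunctorHomotopy
import Groth.Agent.Lib.ModFlat.TensorSymm
import Groth.Agent.Lib.ModFlat.KFlatBounded
import Groth.Agent.Lib.ModFlat.Resolution
import Mathlib.Algebra.Homology.ShortComplex.ExactFunctor

/-! # Semicontinuity of exactness of `H^p(- ⊗^L E)` on a ringed site -/

set_option autoImplicit false
set_option maxHeartbeats 1600000
set_option backward.isDefEq.respectTransparency false
universe u

open CategoryTheory CategoryTheory.Limits HomologicalComplex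

attribute [local instance] HasDerivedCategory.standard

namespace GrothLib.KSix19.SiteSemi

variable {C : Type u} [SmallCategory C] {J : GrothendieckTopology C} {O : Sheaf J CommRingCat.{u}}

/-- K-flat resolutions derive the tensor product with any complex. -/
theorem cxResolvable_tensor (E : CochainComplex (ModSite.Mod O) ℤ) :
    Derive.CxResolvable ModSite.IsKFlat (ModSite.tensorCxQ E) where
  homotopy _ _ f g := fun ⟨h⟩ => by
    have e := HomotopyCategory.eq_of_homotopy _ _ (HomologicalComplex.mapBifunctorMapHomotopy₁ h (𝟙 E) (ModSite.tensorBi O) (ComplexShape.up ℤ))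
    have e' := congrArg DerivedCategory.Qh.map e
    exact (NatIso.naturality_1 (DerivedCategory.quotientCompQhIso (ModSite.Mod O)) _).symm.trans
      ((congrArg (fun t => _ ≫ t ≫ _) e').trans (NatIso.naturality_1 (DerivedCategory.quotientCompQhIso (ModSite.Mod O)) _))
  exists_res K := by
    obtain ⟨P, q, hP, -, hq, -⟩ := ModFlat.exists_kflat_resolution (G := K)
    exact ⟨P, q, hP, hq⟩
  inverts K L φ hK hL hφ := by
    have h1 := ModFlat.quasiIso_tensor_map φ hK hL E
    have : QuasiIso (((ModSite.tensorCx O).flip.obj E).map φ) :=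
      (quasiIso_iff_of_arrow_mk_iso _ _ (Arrow.isoMk ((ModFlat.tensorFlipIso E).app K) ((ModFlat.tensorFlipIso E).app L)
        ((ModFlat.tensorFlipIso E).hom.naturality φ).symm)).2 h1
    exact inferInstanceAs (IsIso (DerivedCategory.Q.map (((ModSite.tensorCx O).flip.obj E).map φ)))

/-- Derived tensor products exist. -/
theorem hasLTensorCx (E : CochainComplex (ModSite.Mod O) ℤ) : ModSite.HasLTensorCx E :=
  (cxResolvable_tensor E).hasLeftDerivedFunctor

/-- `M ↦ P ⊗ M`, termwise. -/
noncomputable def cxTensor (P : CochainComplex (ModSite.Mod O) ℤ) : (ModSite.Mod O) ⥤ CochainComplex (ModSite.Mod O) ℤ where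
  obj M := (((ModSite.tensorBi O).flip.obj M).mapHomologicalComplex (ComplexShape.up ℤ)).obj P
  map g := (NatTrans.mapHomologicalComplex ((ModSite.tensorBi O).flip.map g) (ComplexShape.up ℤ)).app P
  map_id M := HomologicalComplex.hom_ext _ _ fun i =>
    congrArg (fun t => NatTrans.app t (P.X i)) ((ModSite.tensorBi O).flip.map_id M)
  map_comp f g := HomologicalComplex.hom_ext _ _ fun i =>
    congrArg (fun t => NatTrans.app t (P.X i)) ((ModSite.tensorBi O).flip.map_comp f g)

/-- `M ↦ H^i(P ⊗ M)`. -/
noncomputable def cohTensor (P : CochainComplex (ModSite.Mod O) ℤ) (i : ℤ) : (ModSite.Mod O) ⥤ (ModSite.Mod O) :=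
  cxTensor P ⋙ homologyFunctor (ModSite.Mod O) (ComplexShape.up ℤ) i

instance additive_cxTensor (P : CochainComplex (ModSite.Mod O) ℤ) : (cxTensor P).Additive :=
  ⟨fun {_ _ _ _} => HomologicalComplex.hom_ext _ _ fun k => ((ModSite.tensorBi O).obj (P.X k)).map_add⟩

instance additive_cohTensor (P : CochainComplex (ModSite.Mod O) ℤ) (i : ℤ) : (cohTensor P i).Additive :=
  inferInstanceAs ((cxTensor P ⋙ homologyFunctor (ModSite.Mod O) (ComplexShape.up ℤ) i).Additive)

instance preservesZeroMorphisms_cxTensor (P : CochainComplex (ModSite.Mod O) ℤ) :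
    (cxTensor P).PreservesZeroMorphisms :=
  ⟨fun M N => HomologicalComplex.hom_ext _ _ fun k => (((ModSite.tensorBi O).obj (P.X k)).map_zero M N)⟩

instance preservesZeroMorphisms_cohTensor (P : CochainComplex (ModSite.Mod O) ℤ) (i : ℤ) :
    (cohTensor P i).PreservesZeroMorphisms :=
  inferInstanceAs ((cxTensor P ⋙ homologyFunctor (ModSite.Mod O) (ComplexShape.up ℤ) i).PreservesZeroMorphisms)

theorem shortExact_tensorBi {A : ModSite.Mod O} (hA : ModSite.IsFlat A) {S : ShortComplex (ModSite.Mod O)}
    (hS : S.ShortExact) : (S.map ((ModSite.tensorBi O).obj A)).ShortExact :=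
  ShortComplex.shortExact_of_iso (S.mapNatIso ((ModFlat.tensorSymm O).app A)).symm (ModFlat.tensor_map_shortExact hA hS)

theorem shortExact_cxTensor {P : CochainComplex (ModSite.Mod O) ℤ} (hP : ∀ k, ModSite.IsFlat (P.X k))
    (S : ShortComplex (ModSite.Mod O)) (hS : S.ShortExact) [(cxTensor P).PreservesZeroMorphisms] :
    (S.map (cxTensor P)).ShortExact :=
  HomologicalComplex.shortExact_of_degreewise_shortExact _ fun k => shortExact_tensorBi (hP k) hS

/-- A flat cokernel of the incoming differential makes `H^i(P ⊗ -)` preserve monomorphisms. -/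
theorem mono_cohTensor_map {P : CochainComplex (ModSite.Mod O) ℤ} (i : ℤ)
    (hC : ModSite.IsFlat (cokernel (P.d (i - 1) i))) {M N : (ModSite.Mod O)} (g : M ⟶ N) [Mono g] :
    Mono ((cohTensor P i).map g) := by
  have hrel : (ComplexShape.up ℤ).prev i = i - 1 := by simp
  let F := fun M : (ModSite.Mod O) => (ModSite.tensorBi O).flip.obj M
  have hco : ∀ M : (ModSite.Mod O), ∃ e : ((cxTensor P).obj M).opcycles i ≅ (F M).obj (cokernel (P.d (i - 1) i)),
      ((cxTensor P).obj M).pOpcycles i ≫ e.hom = (F M).map (cokernel.π (P.d (i - 1) i)) := fun M => by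
    have hc := isColimitCoforkMapOfIsColimit' (F M) (cokernel.condition (P.d (i - 1) i))
      (cokernelIsCokernel (P.d (i - 1) i))
    let hd := ((cxTensor P).obj M).opcyclesIsCokernel (i - 1) i hrel
    exact ⟨IsColimit.coconePointUniqueUpToIso hd hc,
      IsColimit.comp_coconePointUniqueUpToIso_hom hd hc WalkingParallelPair.one⟩
  obtain ⟨eM, hM⟩ := hco M
  obtain ⟨eN, hN⟩ := hco N
  let t := ((ModSite.tensorBi O).flip.map g).app (cokernel (P.d (i - 1) i))
  have hsq : opcyclesMap ((cxTensor P).map g) i ≫ eN.hom = eM.hom ≫ t := by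
    rw [← cancel_epi (((cxTensor P).obj M).pOpcycles i), p_opcyclesMap_assoc, hN]
    exact ((NatTrans.naturality ((ModSite.tensorBi O).flip.map g) (cokernel.π (P.d (i - 1) i))).symm).trans
      ((congrArg (· ≫ t) hM.symm).trans (Category.assoc _ _ _))
  have ht : Mono t := by
    let S := ShortComplex.mk g (cokernel.π g) (cokernel.condition g)
    have hS : S.ShortExact := { exact := ShortComplex.exact_of_g_is_cokernel _ (cokernelIsCokernel g) }
    exact (shortExact_tensorBi hC hS).mono_f
  have : Mono (opcyclesMap ((cxTensor P).map g) i ≫ eN.hom) := by rw [hsq]; infer_instance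
  have : Mono (opcyclesMap ((cxTensor P).map g) i) := mono_of_mono _ eN.hom
  have h := homologyι_naturality ((cxTensor P).map g) i
  have : Mono (homologyMap ((cxTensor P).map g) i ≫ ((cxTensor P).obj N).homologyι i) := by
    rw [h]; infer_instance
  exact mono_of_mono (homologyMap ((cxTensor P).map g) i) (((cxTensor P).obj N).homologyι i)

/-- Conversely, monomorphism preservation of `H^i(P ⊗ -)` is seen on the cokernel of the incoming differential. -/
theorem mono_cokernel_tensor {P : CochainComplex (ModSite.Mod O) ℤ} (i : ℤ) (hP : ModSite.IsFlat (P.X (i + 1)))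
    {M N : (ModSite.Mod O)} (g : M ⟶ N) [Mono g] [Mono ((cohTensor P i).map g)] :
    Mono (((ModSite.tensorBi O).obj (cokernel (P.d (i - 1) i))).map g) := by
  have hrel : (ComplexShape.up ℤ).prev i = i - 1 := by simp
  let F := fun M : (ModSite.Mod O) => (ModSite.tensorBi O).flip.obj M
  have hco : ∀ M : (ModSite.Mod O), ∃ e : ((cxTensor P).obj M).opcycles i ≅ (F M).obj (cokernel (P.d (i - 1) i)),
      ((cxTensor P).obj M).pOpcycles i ≫ e.hom = (F M).map (cokernel.π (P.d (i - 1) i)) := fun M => by
    have hc := isColimitCoforkMapOfIsColimit' (F M) (cokernel.condition (P.d (i - 1) i))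
      (cokernelIsCokernel (P.d (i - 1) i))
    let hd := ((cxTensor P).obj M).opcyclesIsCokernel (i - 1) i hrel
    exact ⟨IsColimit.coconePointUniqueUpToIso hd hc,
      IsColimit.comp_coconePointUniqueUpToIso_hom hd hc WalkingParallelPair.one⟩
  obtain ⟨eM, hM⟩ := hco M
  obtain ⟨eN, hN⟩ := hco N
  let K := (cxTensor P).obj M
  let L := (cxTensor P).obj N
  let ψ : K ⟶ L := (cxTensor P).map g
  let t := ((ModSite.tensorBi O).obj (cokernel (P.d (i - 1) i))).map g
  have hsq : opcyclesMap ψ i ≫ eN.hom = eM.hom ≫ t := by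
    rw [← cancel_epi (K.pOpcycles i), p_opcyclesMap_assoc, hN]
    exact ((NatTrans.naturality ((ModSite.tensorBi O).flip.map g) (cokernel.π (P.d (i - 1) i))).symm).trans
      ((congrArg (· ≫ t) hM.symm).trans (Category.assoc _ _ _))
  have hm : Mono (opcyclesMap ψ i) := by
    refine Preadditive.mono_of_cancel_zero _ fun {Z} k hk => ?_
    have : Mono (ψ.f (i + 1)) :=
      (shortExact_tensorBi hP (S := ShortComplex.mk g (cokernel.π g) (cokernel.condition g))
        { exact := ShortComplex.exact_of_g_is_cokernel _ (cokernelIsCokernel g) }).mono_f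
    have hnat : K.fromOpcycles i (i + 1) ≫ ψ.f (i + 1) = opcyclesMap ψ i ≫ L.fromOpcycles i (i + 1) := by
      rw [← cancel_epi (K.pOpcycles i), p_fromOpcycles_assoc, p_opcyclesMap_assoc, p_fromOpcycles]
      exact (ψ.comm i (i + 1)).symm
    have h1 : k ≫ K.fromOpcycles i (i + 1) = 0 := by
      rw [← cancel_mono (ψ.f (i + 1)), Category.assoc, hnat, reassoc_of% hk, zero_comp, zero_comp]
    obtain ⟨l, hl⟩ := KernelFork.IsLimit.lift' (K.homologyIsKernel i (i + 1) (by simp)) k h1
    have : Mono (homologyMap ψ i) := inferInstanceAs (Mono ((cohTensor P i).map g))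
    have h2 : l ≫ homologyMap ψ i = 0 := by
      rw [← cancel_mono (L.homologyι i), Category.assoc, homologyι_naturality, ← Category.assoc, zero_comp]
      exact (congrArg (· ≫ opcyclesMap ψ i) hl).trans hk
    rw [show l = 0 from zero_of_comp_mono _ h2] at hl
    exact hl.symm.trans zero_comp
  have : Mono (eM.hom ≫ t) := by rw [← hsq]; infer_instance
  exact (MorphismProperty.monomorphisms _).cancel_left_of_respectsIso eM.hom t |>.1 this

/-- Right exactness in degree `i` gives left exactness in degree `i + 1`. -/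
theorem mono_succ_of_epi {P : CochainComplex (ModSite.Mod O) ℤ} (hP : ∀ k, ModSite.IsFlat (P.X k)) (i : ℤ)
    {M N : (ModSite.Mod O)} (g : M ⟶ N) [Mono g] [Epi ((cohTensor P i).map (cokernel.π g))] :
    Mono ((cohTensor P (i + 1)).map g) := by
  let S := ShortComplex.mk g (cokernel.π g) (cokernel.condition g)
  have hS : S.ShortExact := { exact := ShortComplex.exact_of_g_is_cokernel _ (cokernelIsCokernel g) }
  have hT := shortExact_cxTensor hP S hS
  have hij : (ComplexShape.up ℤ).Rel i (i + 1) := rfl
  have : Epi (homologyMap (S.map (cxTensor P)).g i) := inferInstanceAs (Epi ((cohTensor P i).map (cokernel.π g)))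
  have hδ : hT.δ i (i + 1) hij = 0 := zero_of_epi_comp _ (hT.comp_δ i (i + 1) hij)
  exact (hT.homology_exact₁ i (i + 1) hij).mono_g hδ

theorem singleIso_natural (L : CochainComplex (ModSite.Mod O) ℤ) {M N : (ModSite.Mod O)} (g : M ⟶ N) :
    (cxTensor L).map g ≫ (ModFlat.singleIso L N).hom =
      (ModFlat.singleIso L M).hom ≫ ((ModSite.tensorCx O).obj L).map
        ((HomologicalComplex.single (ModSite.Mod O) (ComplexShape.up ℤ) 0).map g) := by
  refine HomologicalComplex.hom_ext _ _ fun n => ?_
  simp only [HomologicalComplex.comp_f]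
  change ((ModSite.tensorBi O).obj (L.X n)).map g ≫ (((ModSite.tensorBi O).obj (L.X n)).map _ ≫ _) =
    (((ModSite.tensorBi O).obj (L.X n)).map _ ≫ _) ≫ _
  erw [Category.assoc, HomologicalComplex.ι_mapBifunctorMap]
  simp only [HomologicalComplex.id_f, CategoryTheory.Functor.map_id, NatTrans.id_app, Category.id_comp]
  erw [← Functor.map_comp_assoc, ← Functor.map_comp_assoc]
  congr 2

/-- Tensoring a complex with a module, through the module placed in degree zero. -/
noncomputable def cxTensorIso (L : CochainComplex (ModSite.Mod O) ℤ) :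
    cxTensor L ≅ HomologicalComplex.single (ModSite.Mod O) (ComplexShape.up ℤ) 0 ⋙ (ModSite.tensorCx O).obj L :=
  NatIso.ofComponents (fun M => ModFlat.singleIso L M) (fun g => singleIso_natural L g)

/-- Quasi-isomorphic complexes have the same derived tensor product, on the K-flat side. -/
theorem nonempty_ltensor_iso {F F' : CochainComplex (ModSite.Mod O) ℤ} (q : F' ⟶ F) [QuasiIso q]
    [ModSite.HasLTensorCx F] [ModSite.HasLTensorCx F'] : Nonempty (ModSite.LTensorCx F' ≅ ModSite.LTensorCx F) := by
  let W := HomologicalComplex.quasiIso (ModSite.Mod O) (ComplexShape.up ℤ)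
  let α : DerivedCategory.Q ⋙ ModSite.LTensorCx F' ⟶ ModSite.tensorCxQ F :=
    (ModSite.tensorCxQ F').totalLeftDerivedCounit DerivedCategory.Q W ≫
      Functor.whiskerRight ((ModSite.tensorCx O).flip.map q) DerivedCategory.Q
  have hα : ∀ A : CochainComplex (ModSite.Mod O) ℤ, ModSite.IsKFlat A → IsIso (α.app A) := fun A hA => by
    have h1 := (cxResolvable_tensor F').isIso_app_of_isLeftDerivedFunctor (ModSite.LTensorCx F')
      ((ModSite.tensorCxQ F').totalLeftDerivedCounit DerivedCategory.Q W) hA
    have : QuasiIso (((ModSite.tensorCx O).obj A).map q) := ModFlat.quasiIso_tensor_map_of_isKFlat q A hA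
    have h2 : IsIso (DerivedCategory.Q.map (((ModSite.tensorCx O).obj A).map q)) := inferInstance
    exact @IsIso.comp_isIso _ _ _ _ _ _ _ h1 h2
  have := (cxResolvable_tensor F).isLeftDerivedFunctor (ModSite.LTensorCx F') α hα
  exact ⟨Functor.leftDerivedNatIso (ModSite.LTensorCx F') (ModSite.LTensorCx F) α
    ((ModSite.tensorCxQ F).totalLeftDerivedCounit DerivedCategory.Q W) W (Iso.refl _)⟩

/-- Tensoring with a K-flat complex computes the derived tensor product on every complex. -/
theorem isIso_counit_of_isKFlat (E : CochainComplex (ModSite.Mod O) ℤ) [ModSite.HasLTensorCx E] (hE : ModSite.IsKFlat E)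
    (K : CochainComplex (ModSite.Mod O) ℤ) :
    IsIso (((ModSite.tensorCxQ E).totalLeftDerivedCounit DerivedCategory.Q
      (HomologicalComplex.quasiIso (ModSite.Mod O) (ComplexShape.up ℤ))).app K) := by
  let W := HomologicalComplex.quasiIso (ModSite.Mod O) (ComplexShape.up ℤ)
  let α := (ModSite.tensorCxQ E).totalLeftDerivedCounit DerivedCategory.Q W
  obtain ⟨P, q, hP, -, hq, -⟩ := ModFlat.exists_kflat_resolution (G := K)
  have : QuasiIso (((ModSite.tensorCx O).flip.obj E).map q) := ModFlat.quasiIso_map_of_isKFlat q E hE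
  have : IsIso (α.app P) := (cxResolvable_tensor E).isIso_app_of_isLeftDerivedFunctor
    (ModSite.LTensorCx E) α hP
  have h1 : IsIso ((ModSite.tensorCxQ E).map q) :=
    inferInstanceAs (IsIso (DerivedCategory.Q.map (((ModSite.tensorCx O).flip.obj E).map q)))
  exact ((MorphismProperty.isomorphisms _).arrow_mk_iso_iff
    (Arrow.isoMk ((ModSite.LTensorCx E).mapIso (asIso (DerivedCategory.Q.map q))) (asIso ((ModSite.tensorCxQ E).map q))
      (α.naturality q))).1 (inferInstanceAs (IsIso (α.app P)))

/-- `M ↦ H^p(M ⊗^L F)` is `M ↦ H^p(F' ⊗ M)` for a K-flat model `F'`. -/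
theorem nonempty_functor_iso (F : CochainComplex (ModSite.Mod O) ℤ) [ModSite.HasLTensorCx F]
    {F' : CochainComplex (ModSite.Mod O) ℤ} (hF' : ModSite.IsKFlat F') (q : F' ⟶ F) [QuasiIso q] (p : ℤ) :
    Nonempty (DerivedCategory.singleFunctor (ModSite.Mod O) 0 ⋙ ModSite.LTensorCx F ⋙
      DerivedCategory.homologyFunctor (ModSite.Mod O) p ≅ cohTensor F' p) := by
  have := hasLTensorCx F'
  obtain ⟨e⟩ := nonempty_ltensor_iso q
  let W := HomologicalComplex.quasiIso (ModSite.Mod O) (ComplexShape.up ℤ)
  have : IsIso ((ModSite.tensorCxQ F').totalLeftDerivedCounit DerivedCategory.Q W) := by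
    have := fun K => isIso_counit_of_isKFlat F' hF' K
    exact NatIso.isIso_of_isIso_app _
  let c : DerivedCategory.Q ⋙ ModSite.LTensorCx F' ≅ ModSite.tensorCxQ F' :=
    asIso ((ModSite.tensorCxQ F').totalLeftDerivedCounit DerivedCategory.Q W)
  let S := HomologicalComplex.single (ModSite.Mod O) (ComplexShape.up ℤ) 0
  let H := DerivedCategory.homologyFunctor (ModSite.Mod O) p
  exact ⟨Functor.isoWhiskerLeft (DerivedCategory.singleFunctor (ModSite.Mod O) 0)
      (Functor.isoWhiskerRight e.symm H) ≪≫
    Functor.isoWhiskerLeft S (Functor.isoWhiskerRight c H) ≪≫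
    Functor.isoWhiskerLeft S (Functor.isoWhiskerLeft ((ModSite.tensorCx O).flip.obj F')
      (DerivedCategory.homologyFunctorFactors (ModSite.Mod O) p)) ≪≫
    Functor.isoWhiskerRight (Functor.isoWhiskerLeft S (ModFlat.tensorFlipIso F') ≪≫ (cxTensorIso F').symm)
      (HomologicalComplex.homologyFunctor (ModSite.Mod O) (ComplexShape.up ℤ) p)⟩

/-- `H^p(P ⊗ -)` is right exact iff `H^{p+1}(P ⊗ -)` is left exact. -/
theorem colimits_iff_limits_succ {P : CochainComplex (ModSite.Mod O) ℤ} (hP : ∀ k, ModSite.IsFlat (P.X k)) (p : ℤ) :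
    PreservesFiniteColimits (cohTensor P p) ↔ PreservesFiniteLimits (cohTensor P (p + 1)) := by
  have hij : (ComplexShape.up ℤ).Rel p (p + 1) := rfl
  have hmid : ∀ (i : ℤ) (S : ShortComplex (ModSite.Mod O)), S.ShortExact → (S.map (cohTensor P i)).Exact :=
    fun i S hS => (shortExact_cxTensor hP S hS).homology_exact₂ i
  rw [Functor.preservesFiniteColimits_iff_forall_exact_map_and_epi,
    Functor.preservesFiniteLimits_iff_forall_exact_map_and_mono]
  constructor
  · intro h S hS
    refine ⟨hmid (p + 1) S hS, ?_⟩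
    have hT := shortExact_cxTensor hP S hS
    have : Epi (homologyMap (S.map (cxTensor P)).g p) := (h S hS).2
    exact (hT.homology_exact₁ p (p + 1) hij).mono_g (zero_of_epi_comp _ (hT.comp_δ p (p + 1) hij))
  · intro h S hS
    refine ⟨hmid p S hS, ?_⟩
    have hT := shortExact_cxTensor hP S hS
    have : Mono (homologyMap (S.map (cxTensor P)).f (p + 1)) := (h S hS).2
    exact (hT.homology_exact₃ p (p + 1) hij).epi_f (zero_of_comp_mono _ (hT.δ_comp p (p + 1) hij))

/-- Right exactness of `H^p(P ⊗ -)` is flatness of the cokernel of the outgoing differential. -/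
theorem colimits_iff_flat_cokernel {P : CochainComplex (ModSite.Mod O) ℤ} (hP : ∀ k, ModSite.IsFlat (P.X k)) (p : ℤ) :
    PreservesFiniteColimits (cohTensor P p) ↔ ModSite.IsFlat (cokernel (P.d p (p + 1))) := by
  rw [colimits_iff_limits_succ hP p]
  have key : ∀ k, k = p → (ModSite.IsFlat (cokernel (P.d k (p + 1))) ↔ ModSite.IsFlat (cokernel (P.d p (p + 1)))) :=
    fun k hk => by subst hk; rfl
  rw [← key (p + 1 - 1) (by omega)]
  constructor
  · intro h
    refine (ModFlat.isFlat_iff_left _).2 ⟨fun {M N} g _ => ?_⟩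
    have : Mono ((cohTensor P (p + 1)).map g) := inferInstance
    exact mono_cokernel_tensor (p + 1) (hP _) g
  · intro h
    rw [Functor.preservesFiniteLimits_iff_forall_exact_map_and_mono]
    intro S hS
    have := hS.mono_f
    exact ⟨(shortExact_cxTensor hP S hS).homology_exact₂ (p + 1), mono_cohTensor_map (p + 1) h S.f⟩

end GrothLib.KSix19.SiteSemi
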